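import Mathlib.AlgebraicGeometry.Morphisms.QuasiSeparated
import Mathlib.FieldTheory.IsAlgClosed.AlgebraicClosure
import Mathlib.RingTheory.IntegralClosure.IsIntegralClosure.Basic
import Mathlib.GroupTheory.OrderOfElement

/-!
# Values of functions at the geometric points of an integral algebra over a field
-/

set_option autoImplicit false
set_option backward.isDefEq.respectTransparency false
set_option backward.isDefEq.respectTransparency.types false
set_option linter.style.haveILetI false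

universe u

open CategoryTheory AlgebraicGeometry TopologicalSpace

noncomputable section

namespace Groth.Agent.IntPts2

variable {k A : Type u} [Field k] [CommRing A] [Algebra k A]

variable {X : Scheme.{u}} (g : Spec (CommRingCat.of A) ⟶ X)

/-- The geometric point of `X` attached to a point of `A` with values in the algebraic closure. -/
def geomPt (φ : A →ₐ[k] AlgebraicClosure k) : Spec (CommRingCat.of (AlgebraicClosure k)) ⟶ X :=
  Spec.map (CommRingCat.ofHom φ.toRingHom) ≫ g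

theorem le_preimage (φ : A →ₐ[k] AlgebraicClosure k) {V : X.Opens}
    (hV : geomPt g φ (IsLocalRing.closedPoint (AlgebraicClosure k)) ∈ V) : ⊤ ≤ geomPt g φ ⁻¹ᵁ V := by
  intro z _
  rw [Subsingleton.elim z (IsLocalRing.closedPoint (AlgebraicClosure k))]
  exact hV

/-- The value of a function at a geometric point. -/
def val (φ : A →ₐ[k] AlgebraicClosure k) {V : X.Opens}
    (hV : geomPt g φ (IsLocalRing.closedPoint (AlgebraicClosure k)) ∈ V) :
    Γ(X, V) →+* AlgebraicClosure k :=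
  ((geomPt g φ).appLE V ⊤ (le_preimage g φ hV) ≫ (Scheme.ΓSpecIso _).hom).hom

theorem mem_basicOpen_iff (φ : A →ₐ[k] AlgebraicClosure k) {V : X.Opens}
    (hV : geomPt g φ (IsLocalRing.closedPoint (AlgebraicClosure k)) ∈ V) (a : Γ(X, V)) :
    geomPt g φ (IsLocalRing.closedPoint (AlgebraicClosure k)) ∈ X.basicOpen a ↔ val g φ hV a ≠ 0 := by
  have h := Scheme.basicOpen_appLE (geomPt g φ) ⊤ V (le_preimage g φ hV) a
  rw [top_inf_eq] at h
  show IsLocalRing.closedPoint (AlgebraicClosure k) ∈ geomPt g φ ⁻¹ᵁ X.basicOpen a ↔ _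
  rw [← h, basicOpen_eq_of_affine']
  show (Scheme.ΓSpecIso (CommRingCat.of (AlgebraicClosure k))).hom _ ∉
    (IsLocalRing.closedPoint (AlgebraicClosure k)).asIdeal ↔ _
  show _ ∉ IsLocalRing.maximalIdeal (AlgebraicClosure k) ↔ _
  rw [IsLocalRing.mem_maximalIdeal, mem_nonunits_iff, not_not, isUnit_iff_ne_zero]
  rfl

variable [Algebra.IsIntegral k A]

omit g in
theorem exists_algHom (p : Spec (CommRingCat.of A)) :
    ∃ φ : A →ₐ[k] AlgebraicClosure k,
      Spec.map (CommRingCat.ofHom φ.toRingHom) (IsLocalRing.closedPoint (AlgebraicClosure k)) = p := by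
  let q : Ideal A := p.asIdeal
  haveI : q.IsPrime := p.2
  haveI : q.IsMaximal := by
    refine Ideal.Quotient.maximal_of_isField _ ?_
    exact isField_of_isIntegral_of_isField' (Field.toIsField k)
  let := Ideal.Quotient.field q
  let ψ : (A ⧸ q) →ₐ[k] AlgebraicClosure k := IsAlgClosed.lift
  refine ⟨ψ.comp (Ideal.Quotient.mkₐ k q), PrimeSpectrum.ext ?_⟩
  show Ideal.comap _ (IsLocalRing.maximalIdeal (AlgebraicClosure k)) = p.asIdeal
  rw [IsLocalRing.maximalIdeal_eq_bot, ← RingHom.ker_eq_comap_bot]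
  ext x
  rw [RingHom.mem_ker]
  show ψ (Ideal.Quotient.mk q x) = 0 ↔ _
  rw [map_eq_zero_iff ψ ψ.injective, Ideal.Quotient.eq_zero_iff_mem]

omit g in
theorem finite_values (z : A) : (Set.range fun φ : A →ₐ[k] AlgebraicClosure k => φ z).Finite := by
  refine ((minpoly k z).rootSet_finite (AlgebraicClosure k)).subset ?_
  rintro _ ⟨φ, rfl⟩
  rw [Polynomial.mem_rootSet]
  refine ⟨minpoly.ne_zero (Algebra.IsIntegral.isIntegral z), ?_⟩
  rw [Polynomial.aeval_algHom_apply, minpoly.aeval, map_zero]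

/-- A function on an open of `X` takes only finitely many values at geometric points. -/
theorem finite_val {V : X.Opens} (hc : IsCompact ((g ⁻¹ᵁ V : (Spec (CommRingCat.of A)).Opens) : Set ↥(Spec (CommRingCat.of A))))
    (a : Γ(X, V)) :
    {v : AlgebraicClosure k | ∃ (φ : A →ₐ[k] AlgebraicClosure k)
      (hV : geomPt g φ (IsLocalRing.closedPoint (AlgebraicClosure k)) ∈ V), val g φ hV a = v}.Finite := by
  let T := Spec (CommRingCat.of A)
  have hc' : IsCompact ((g ⁻¹ᵁ V : T.Opens) : Set T) := hc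
  obtain ⟨E, hEsub, hEfin, hcov⟩ := hc'.elim_finite_subcover_image
    (b := {e : Γ(T, ⊤) | T.basicOpen e ≤ g ⁻¹ᵁ V}) (c := fun e => ((T.basicOpen e : T.Opens) : Set T))
    (fun e _ => (T.basicOpen e).2) (fun (y : T) (hy : y ∈ (g ⁻¹ᵁ V : T.Opens)) => by
      obtain ⟨e, he, hye⟩ := (isAffineOpen_top T).exists_basicOpen_le (V := g ⁻¹ᵁ V) ⟨y, hy⟩ trivial
      exact Set.mem_iUnion₂.mpr ⟨e, he, hye⟩)
  have hfr : ∀ e : Γ(T, ⊤), T.basicOpen e ≤ g ⁻¹ᵁ V → ∃ (n : ℕ) (c : Γ(T, ⊤)),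
      ∀ (φ : A →ₐ[k] AlgebraicClosure k)
        (hV : geomPt g φ (IsLocalRing.closedPoint (AlgebraicClosure k)) ∈ V),
        Spec.map (CommRingCat.ofHom φ.toRingHom) (IsLocalRing.closedPoint (AlgebraicClosure k)) ∈ T.basicOpen e →
        φ ((Scheme.ΓSpecIso (CommRingCat.of A)).hom e) ≠ 0 ∧
        val g φ hV a * φ ((Scheme.ΓSpecIso (CommRingCat.of A)).hom e) ^ n =
          φ ((Scheme.ΓSpecIso (CommRingCat.of A)).hom c) := by
    intro e he
    haveI := (isAffineOpen_top T).isLocalization_basicOpen e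
    obtain ⟨n, c, hc⟩ := IsLocalization.Away.surj e (g.appLE V (T.basicOpen e) he a)
    refine ⟨n, c, fun φ hV hy => ?_⟩
    let σ : Spec (CommRingCat.of (AlgebraicClosure k)) ⟶ T := Spec.map (CommRingCat.ofHom φ.toRingHom)
    have hle : ⊤ ≤ σ ⁻¹ᵁ T.basicOpen e := by
      intro z _
      rw [Subsingleton.elim z (IsLocalRing.closedPoint (AlgebraicClosure k))]
      exact hy
    let ψ : Γ(T, T.basicOpen e) →+* AlgebraicClosure k :=
      (σ.appLE (T.basicOpen e) ⊤ hle ≫ (Scheme.ΓSpecIso _).hom).hom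
    have hψ : ∀ x : Γ(T, ⊤), ψ (algebraMap Γ(T, ⊤) Γ(T, T.basicOpen e) x) =
        φ ((Scheme.ΓSpecIso (CommRingCat.of A)).hom x) := fun x => by
      have h2 := ConcreteCategory.congr_hom (Scheme.ΓSpecIso_naturality (CommRingCat.ofHom φ.toRingHom)) x
      refine Eq.trans ?_ h2
      show (Scheme.ΓSpecIso _).hom ((T.presheaf.map (homOfLE le_top).op ≫ σ.appLE (T.basicOpen e) ⊤ hle) x) = _
      rw [Scheme.Hom.map_appLE]
      have h3 : ∀ e', σ.appLE ⊤ ⊤ e' = σ.appTop := fun e' => Scheme.Hom.appLE_eq_app σ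
      rw [h3]
      rfl
    have hv : ψ (g.appLE V (T.basicOpen e) he a) = val g φ hV a := by
      show (Scheme.ΓSpecIso _).hom ((g.appLE V (T.basicOpen e) he ≫ σ.appLE (T.basicOpen e) ⊤ hle) a) = _
      rw [Scheme.Hom.appLE_comp_appLE]
      rfl
    refine ⟨?_, ?_⟩
    · rw [← hψ]
      exact ((IsLocalization.Away.algebraMap_isUnit e).map ψ).ne_zero
    · rw [← hψ, ← hψ, ← hv, ← map_pow, ← map_mul, hc]
  choose! n c hnc using hfr
  refine Set.Finite.subset (hEfin.biUnion fun e _ => Set.Finite.image2 (fun γ ε => γ / ε ^ n e)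
    (finite_values (k := k) ((Scheme.ΓSpecIso (CommRingCat.of A)).hom (c e)))
    (finite_values (k := k) ((Scheme.ΓSpecIso (CommRingCat.of A)).hom e))) ?_
  rintro v ⟨φ, hV, rfl⟩
  obtain ⟨e, he, hye⟩ := Set.mem_iUnion₂.mp (hcov (show
    Spec.map (CommRingCat.ofHom φ.toRingHom) (IsLocalRing.closedPoint (AlgebraicClosure k)) ∈ g ⁻¹ᵁ V from hV))
  obtain ⟨h1, h2⟩ := hnc e (hEsub he) φ hV hye
  refine Set.mem_iUnion₂.mpr ⟨e, he, _, ⟨φ, rfl⟩, _, ⟨φ, rfl⟩, ?_⟩
  simp only
  rw [← h2, mul_div_cancel_right₀ _ (pow_ne_zero _ h1)]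

/-- A common exponent: elements of finite order become trivial. -/
theorem exists_exponent {F : Type u} [Field F] {R : Set F} (hR : R.Finite) :
    ∃ m : ℕ, 0 < m ∧ ∀ r ∈ R, ∀ i : ℕ, 0 < i → r ^ i = 1 → r ^ m = 1 := by
  classical
  refine ⟨∏ r ∈ hR.toFinset, max 1 (orderOf r),
    Finset.prod_pos fun r _ => lt_of_lt_of_le one_pos (le_max_left _ _), fun r hr i hi hri => ?_⟩
  have h0 : 0 < orderOf r := orderOf_pos_iff.mpr (isOfFinOrder_iff_pow_eq_one.mpr ⟨i, hi, hri⟩)
  have h1 : orderOf r ∣ ∏ r ∈ hR.toFinset, max 1 (orderOf r) := by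
    refine (dvd_of_eq ?_).trans (Finset.dvd_prod_of_mem _ (hR.mem_toFinset.mpr hr))
    exact (max_eq_right h0).symm
  exact orderOf_dvd_iff_pow_eq_one.mp h1

end Groth.Agent.IntPts2
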