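import Groth.Agent.Lib.Ample18.Avoid
import Groth.Agent.Lib.IntPts2.Points
import Mathlib.Algebra.CharP.Basic

/-!
# Sections of ample modules not vanishing at the points of an integral algebra over a field
-/

set_option autoImplicit false
set_option backward.isDefEq.respectTransparency false
set_option backward.isDefEq.respectTransparency.types false
set_option linter.style.haveILetI false

universe u

open CategoryTheory Limits AlgebraicGeometry TopologicalSpace Opposite

noncomputable section

namespace Groth.Agent.IntPts2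

open Groth.Agent.Amp
open Groth.Agent.M2 (tsec res IsGenerator)

variable {X : Scheme.{u}} {M N L : X.Modules}

/-- The sum of two sections with affine loci has affine locus. -/
theorem sum_affine (hM : PicF.IsInvertible M) (a b : Coh.structureModule X ⟶ M)
    (ha : IsAffineOpen (CohB1.genLocus M a)) (hb : IsAffineOpen (CohB1.genLocus M b)) :
    IsAffineOpen (CohB1.genLocus M (M1.secHom (gval a + gval b))) ∧
      CohB1.genLocus M (M1.secHom (gval a + gval b)) ≤ CohB1.genLocus M a ⊔ CohB1.genLocus M b := by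
  let s := M1.secHom (gval a + gval b)
  obtain ⟨ha', hha, hDa⟩ := exists_ratio hM s a
  obtain ⟨hb', hhb, hDb⟩ := exists_ratio hM s b
  have h1 : ha' + hb' = 1 := by
    refine (isGenerator_genLocus hM s _ le_rfl).1 ?_
    change (ha' + hb') • res M le_rfl (res M le_top (gval s)) = (1 : Γ(X, _)) • res M le_rfl (res M le_top (gval s))
    rw [one_smul, res_self, add_smul, hha, hhb, gval_secHom]
    exact (map_add _ _ _).symm
  refine ⟨?_, fun x hx => ?_⟩
  · refine isAffineOpen_of_isAffineOpen_basicOpen _ {ha', hb'} ?_ ?_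
    · rw [Ideal.eq_top_iff_one, ← h1]
      exact Ideal.add_mem _ (Ideal.subset_span (Set.mem_insert _ _))
        (Ideal.subset_span (Set.mem_insert_of_mem _ rfl))
    · rintro _ (rfl | rfl)
      · rw [← hDa, inf_comm]; exact isAffineOpen_inf_genLocus hM s ha
      · rw [← hDb, inf_comm]; exact isAffineOpen_inf_genLocus hM s hb
  · have hu : IsUnit (X.presheaf.germ (CohB1.genLocus M s) x hx (ha' + hb')) := by rw [h1, map_one]; exact isUnit_one
    rw [map_add] at hu
    rcases IsLocalRing.isUnit_or_isUnit_of_isUnit_add hu with h | h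
    · have h' := (Scheme.mem_basicOpen X ha' x hx).mpr h
      rw [← hDa] at h'
      exact Or.inl h'.1
    · have h' := (Scheme.mem_basicOpen X hb' x hx).mpr h
      rw [← hDb] at h'
      exact Or.inr h'.1

/-- Membership in a locus by a coefficient. -/
theorem mem_genLocus_coeff (hM : PicF.IsInvertible M) {U : X.Opens} {x : X} (hx : x ∈ U) {e : Γ(M, U)}
    (he : Gen (gm M x hx e)) (s : Coh.structureModule X ⟶ M) {a : Γ(X, U)}
    (h : res M le_top (gval s) = a • e) : x ∈ CohB1.genLocus M s ↔ x ∈ X.basicOpen a := by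
  rw [mem_genLocus_iff hM, ← gm_res (le_top : U ≤ ⊤) hx, h, gm_smul, he.ne_zero_smul]
  exact (Scheme.mem_basicOpen X a x hx).symm

theorem coeff_add {U : X.Opens} {e : Γ(M, U)} (s t : Coh.structureModule X ⟶ M) {a b : Γ(X, U)}
    (ha : res M le_top (gval s) = a • e) (hb : res M le_top (gval t) = b • e) :
    res M le_top (gval (M1.secHom (gval s + gval t))) = (a + b) • e := by
  rw [gval_secHom, add_smul, ← ha, ← hb]
  exact map_add _ _ _

theorem coeff_pow {U : X.Opens} {e : Γ(M, U)} (s : Coh.structureModule X ⟶ M) {a : Γ(X, U)}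
    (ha : res M le_top (gval s) = a • e) (m : ℕ) :
    res (CohB1.tensorPow M m) le_top (gval (SecTwist.powHom s m)) = a ^ m • pw e m := by
  rw [gval_powHom, res_pw, ha, pw_smul]

theorem coeff_tmul {U : X.Opens} {e : Γ(M, U)} {e' : Γ(N, U)} (s : Coh.structureModule X ⟶ M)
    (t : Coh.structureModule X ⟶ N) {a b : Γ(X, U)}
    (ha : res M le_top (gval s) = a • e) (hb : res N le_top (gval t) = b • e') :
    res (CohB1.tensorMod M N) le_top (gval (SecTwist.tmulHom s t)) = (a * b) • tsec M N e e' := by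
  rw [gval_tmulHom, M2.res_tsec, ha, hb]
  refine (M2.tsec_smul_left _ _ _).trans ?_
  rw [M2.tsec_smul_right, smul_smul]

variable {k A : Type u} [Field k] [CommRing A] [Algebra k A] [Algebra.IsIntegral k A]
  (g : Spec (CommRingCat.of A) ⟶ X)

/-- An exponent making the ratios of two sections at geometric points either trivial or of infinite order. -/
theorem exists_good [CompactSpace X] [QuasiSeparatedSpace X] (hM : PicF.IsInvertible M)
    (s t : Coh.structureModule X ⟶ M) :
    ∃ m : ℕ, ∀ φ : A →ₐ[k] AlgebraicClosure k,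
      ∃ (U : X.Opens) (hU : geomPt g φ (IsLocalRing.closedPoint (AlgebraicClosure k)) ∈ U) (e : Γ(M, U))
        (a b : Γ(X, U)), Gen (gm M (geomPt g φ (IsLocalRing.closedPoint (AlgebraicClosure k))) hU e) ∧
          res M le_top (gval s) = a • e ∧ res M le_top (gval t) = b • e ∧
          ∀ i : ℕ, 0 < i → (val g φ hU a / val g φ hU b) ^ i = 1 →
            (val g φ hU a / val g φ hU b) ^ (m + 1) = 1 := by
  choose U e hxU hUV hU he using fun x : X => exists_isGenerator hM (V := ⊤) (x := x) trivial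
  choose a ha using fun x : X => exists_coeff (he x) (res M le_top (gval s))
  choose b hb using fun x : X => exists_coeff (he x) (res M le_top (gval t))
  obtain ⟨J, hJ⟩ := isCompact_univ.elim_finite_subcover (fun x : X => (U x : Set X)) (fun x => (U x).2)
    (fun x _ => Set.mem_iUnion.mpr ⟨x, hxU x⟩)
  have hfin : ∀ (j : X) (c : Γ(X, U j)), {v : AlgebraicClosure k | ∃ (φ : A →ₐ[k] AlgebraicClosure k)
      (hV : geomPt g φ (IsLocalRing.closedPoint (AlgebraicClosure k)) ∈ U j), val g φ hV c = v}.Finite :=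
    fun j c => finite_val (k := k) g (g.isCompact_preimage (hU j).isCompact) c
  obtain ⟨m, hm0, hm⟩ := exists_exponent (J.finite_toSet.biUnion fun j _ =>
    Set.Finite.image2 (fun v w => v / w) (hfin j (a j)) (hfin j (b j)))
  refine ⟨m - 1, fun φ => ?_⟩
  obtain ⟨j, hj, hφ⟩ := Set.mem_iUnion₂.mp (hJ (Set.mem_univ
    (geomPt g φ (IsLocalRing.closedPoint (AlgebraicClosure k)))))
  refine ⟨U j, hφ, e j, a j, b j, gen_of_isGenerator (he j) hφ, (ha j).symm, (hb j).symm, fun i hi h => ?_⟩
  rw [Nat.sub_add_cancel hm0]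
  exact hm _ (Set.mem_iUnion₂.mpr ⟨j, hj, _, ⟨φ, hφ, rfl⟩, _, ⟨φ, hφ, rfl⟩, rfl⟩) i hi h

/-- The non-vanishing set at geometric points of two affine loci is contained in a single one. -/
theorem exists_combine (hL : CohB1.IsAmple L) {n p : ℕ} {G H : X.Opens} (hG : HasSec L (n + 1) G)
    (hH : HasSec L (p + 1) H) (hGA : IsAffineOpen G) (hHA : IsAffineOpen H) :
    ∃ (q : ℕ) (K : X.Opens), HasSec L (q + 1) K ∧ IsAffineOpen K ∧ K ≤ G ⊔ H ∧
      ∀ φ : A →ₐ[k] AlgebraicClosure k,
        geomPt g φ (IsLocalRing.closedPoint (AlgebraicClosure k)) ∈ G ⊔ H →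
        geomPt g φ (IsLocalRing.closedPoint (AlgebraicClosure k)) ∈ K := by
  haveI : CompactSpace X := hL.2.1
  haveI : QuasiSeparatedSpace X := quasiSeparatedSpace_of_isAmple hL
  obtain ⟨s, rfl⟩ := hG.powPow hL.1 p
  obtain ⟨t, rfl⟩ := (hH.powPow hL.1 n).of_eq (Nat.mul_comm (p + 1) (n + 1))
  let M := CohB1.tensorPow L ((n + 1) * (p + 1))
  have hM : PicF.IsInvertible M := isInvertible_tensorPow hL.1 _
  obtain ⟨m, hm⟩ := exists_good (k := k) g hM s t
  by_cases h2 : (2 : AlgebraicClosure k) = 0
  · let M' := CohB1.tensorMod M M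
    have hM' : PicF.IsInvertible M' := M2.isInvertible_tensor hM hM
    have hMm : PicF.IsInvertible (CohB1.tensorPow M' (m + 1)) := isInvertible_tensorPow hM' _
    let P := SecTwist.powHom (SecTwist.tmulHom s s) (m + 1)
    let Q := SecTwist.powHom (SecTwist.tmulHom s t) (m + 1)
    let R := SecTwist.powHom (SecTwist.tmulHom t t) (m + 1)
    have hP : CohB1.genLocus _ P = CohB1.genLocus _ s := by
      rw [genLocus_powHom hM', genLocus_tmulHom hM hM, inf_idem]
    have hQ : CohB1.genLocus _ Q = CohB1.genLocus _ s ⊓ CohB1.genLocus _ t := by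
      rw [genLocus_powHom hM', genLocus_tmulHom hM hM]
    have hR : CohB1.genLocus _ R = CohB1.genLocus _ t := by
      rw [genLocus_powHom hM', genLocus_tmulHom hM hM, inf_idem]
    obtain ⟨hA1, hS1⟩ := sum_affine hMm P Q (hP.symm ▸ hGA)
      (hQ.symm ▸ isAffineOpen_inf_hasSec hL.1 ⟨s, rfl⟩ hHA)
    obtain ⟨hA2, hS2⟩ := sum_affine hMm (M1.secHom (gval P + gval Q)) R hA1 (hR.symm ▸ hHA)
    have hsec : HasSec M' (m + 1) _ := ⟨M1.secHom (gval (M1.secHom (gval P + gval Q)) + gval R), rfl⟩
    refine ⟨((n + 1) * (p + 1) + (n + 1) * (p + 1)) * (m + 1) - 1, _,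
      ((hsec.map_iso (M2.tensorPowAdd L _ _).symm).of_tensorPow).of_eq (Nat.sub_add_cancel ?_).symm, hA2, ?_, ?_⟩
    · exact Nat.mul_pos (Nat.add_pos_left (Nat.mul_pos n.succ_pos p.succ_pos) _) m.succ_pos
    · refine hS2.trans (sup_le (hS1.trans (sup_le ?_ ?_)) ?_)
      · rw [hP]; exact le_sup_left
      · rw [hQ]; exact inf_le_left.trans le_sup_left
      · rw [hR]; exact le_sup_right
    · intro φ hφ
      obtain ⟨U, hU, e, a, b, he, ha, hb, hord⟩ := hm φ
      have hee : Gen (gm M' _ hU (tsec M M e e)) := (gen_tsec_iff hM hM hU e e).mpr ⟨he, he⟩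
      have hfin := coeff_add _ _ (coeff_add _ _
        (coeff_pow _ (coeff_tmul s s ha ha) (m + 1))
        (coeff_pow _ (coeff_tmul s t ha hb) (m + 1)))
        (coeff_pow _ (coeff_tmul t t hb hb) (m + 1))
      rw [mem_genLocus_coeff hMm hU (gen_pw hM' hU _ _ hee) _ hfin, mem_basicOpen_iff g φ hU]
      have hab : val g φ hU a ≠ 0 ∨ val g φ hU b ≠ 0 := by
        rcases hφ with h | h
        · exact Or.inl ((mem_basicOpen_iff g φ hU a).mp ((mem_genLocus_coeff hM hU he s ha).mp h))
        · exact Or.inr ((mem_basicOpen_iff g φ hU b).mp ((mem_genLocus_coeff hM hU he t hb).mp h))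
      simp only [map_add, map_pow, map_mul]
      generalize val g φ hU a = α at hab hord ⊢
      generalize val g φ hU b = β at hab hord ⊢
      intro h0
      by_cases hβ : β = 0
      · subst hβ
        simp at h0 hab
        exact hab h0
      set r := α / β with hr
      have hpoly : r ^ (m + 1) * r ^ (m + 1) + r ^ (m + 1) + 1 = 0 := by
        have hαr : α = r * β := by rw [hr, div_mul_cancel₀ _ hβ]
        rw [hαr, mul_pow, mul_pow, mul_pow, mul_pow] at h0
        refine (mul_eq_zero.mp (?_ : (r ^ (m + 1) * r ^ (m + 1) + r ^ (m + 1) + 1) *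
          (β ^ (m + 1) * β ^ (m + 1)) = 0)).resolve_right (mul_ne_zero (pow_ne_zero _ hβ) (pow_ne_zero _ hβ))
        linear_combination h0
      have h3 : r ^ ((m + 1) * 3) = 1 := by
        rw [pow_mul]
        linear_combination (r ^ (m + 1) - 1) * hpoly
      rw [hord _ (by positivity) h3] at hpoly
      exact one_ne_zero (by linear_combination hpoly - h2)
  · have hMm : PicF.IsInvertible (CohB1.tensorPow M (m + 1)) := isInvertible_tensorPow hM _
    let P := SecTwist.powHom s (m + 1)
    let R := SecTwist.powHom t (m + 1)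
    have hP : CohB1.genLocus _ P = CohB1.genLocus _ s := genLocus_powHom hM s m
    have hR : CohB1.genLocus _ R = CohB1.genLocus _ t := genLocus_powHom hM t m
    obtain ⟨hA2, hS2⟩ := sum_affine hMm P R (hP.symm ▸ hGA) (hR.symm ▸ hHA)
    have hsec : HasSec M (m + 1) _ := ⟨M1.secHom (gval P + gval R), rfl⟩
    refine ⟨(n + 1) * (p + 1) * (m + 1) - 1, _, hsec.of_tensorPow.of_eq (Nat.sub_add_cancel ?_).symm, hA2, ?_, ?_⟩
    · exact Nat.mul_pos (Nat.mul_pos n.succ_pos p.succ_pos) m.succ_pos
    · rw [hP, hR] at hS2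
      exact hS2
    · intro φ hφ
      obtain ⟨U, hU, e, a, b, he, ha, hb, hord⟩ := hm φ
      have hfin := coeff_add _ _ (coeff_pow s ha (m + 1)) (coeff_pow t hb (m + 1))
      rw [mem_genLocus_coeff hMm hU (gen_pw hM hU _ _ he) _ hfin, mem_basicOpen_iff g φ hU]
      have hab : val g φ hU a ≠ 0 ∨ val g φ hU b ≠ 0 := by
        rcases hφ with h | h
        · exact Or.inl ((mem_basicOpen_iff g φ hU a).mp ((mem_genLocus_coeff hM hU he s ha).mp h))
        · exact Or.inr ((mem_basicOpen_iff g φ hU b).mp ((mem_genLocus_coeff hM hU he t hb).mp h))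
      simp only [map_add, map_pow]
      generalize val g φ hU a = α at hab hord ⊢
      generalize val g φ hU b = β at hab hord ⊢
      intro h0
      by_cases hβ : β = 0
      · subst hβ
        simp at h0 hab
        exact hab h0
      have h1 : (α / β) ^ (m + 1) = -1 := by
        rw [div_pow, div_eq_iff (pow_ne_zero _ hβ)]
        linear_combination h0
      rw [hord ((m + 1) * 2) (by positivity) (by rw [pow_mul, h1]; ring)] at h1
      exact h2 (by linear_combination h1)

variable (k) in
include k in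
/-- An affine locus inside a given open through the image of an integral algebra over a field. -/
theorem exists_affine_hasSec (hL : CohB1.IsAmple L) (W : X.Opens)
    (hg : Set.range g.base ⊆ (W : Set X)) :
    ∃ (n : ℕ) (K : X.Opens), HasSec L (n + 1) K ∧ IsAffineOpen K ∧ K ≤ W ∧ Set.range g.base ⊆ (K : Set X) := by
  classical
  choose n G hG hxG hGW hGA using fun y : Spec (CommRingCat.of A) =>
    exists_hasSec_le hL (V := W) (x := g.base y) (hg ⟨y, rfl⟩)
  obtain ⟨J, hJ⟩ := isCompact_univ.elim_finite_subcover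
    (fun y : Spec (CommRingCat.of A) => g.base ⁻¹' (G y : Set X))
    (fun y => (G y).2.preimage g.continuous) (fun y _ => Set.mem_iUnion.mpr ⟨y, hxG y⟩)
  have H : ∀ T : Finset (Spec (CommRingCat.of A)), ∃ (q : ℕ) (K : X.Opens), HasSec L (q + 1) K ∧
      IsAffineOpen K ∧ K ≤ W ∧ ∀ φ : A →ₐ[k] AlgebraicClosure k, ∀ y ∈ T,
        geomPt g φ (IsLocalRing.closedPoint (AlgebraicClosure k)) ∈ G y →
        geomPt g φ (IsLocalRing.closedPoint (AlgebraicClosure k)) ∈ K := by
    intro T
    induction T using Finset.induction with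
    | empty => exact ⟨0, ⊥, ⟨_, genLocus_secHom_zero (isInvertible_tensorPow hL.1 1)⟩, isAffineOpen_bot X, bot_le,
        fun _ _ h => absurd h (Finset.notMem_empty _)⟩
    | insert z T hz ih =>
      obtain ⟨q, K, hK, hKA, hKW, hKφ⟩ := ih
      obtain ⟨q', K', hK', hKA', hKK, hφ'⟩ := exists_combine (k := k) g hL (hG z) hK (hGA z) hKA
      refine ⟨q', K', hK', hKA', hKK.trans (sup_le (hGW z) hKW), fun φ y hy hyG => hφ' φ ?_⟩
      rcases Finset.mem_insert.mp hy with rfl | hy
      · exact Or.inl hyG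
      · exact Or.inr (hKφ φ y hy hyG)
  obtain ⟨q, K, hK, hKA, hKW, hKφ⟩ := H J
  refine ⟨q, K, hK, hKA, hKW, ?_⟩
  rintro _ ⟨y, rfl⟩
  obtain ⟨z, hz, hyz⟩ := Set.mem_iUnion₂.mp (hJ (Set.mem_univ y))
  obtain ⟨φ, hφ⟩ := exists_algHom (k := k) y
  have he : geomPt g φ (IsLocalRing.closedPoint (AlgebraicClosure k)) = g.base y := congrArg g.base hφ
  have := hKφ φ z hz (by rw [he]; exact hyz)
  rw [he] at this
  exact this

end Groth.Agent.IntPts2
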